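import Cfsg.Agent.Lib.H2.TCHNB.Chk
set_option Elab.async false
set_option autoImplicit false
set_option maxRecDepth 100000
set_option linter.all false
namespace H2.TCHNB
open H35.TC
theorem r_8 : allB chkP 10 8192 = true := by decide +kernel
theorem r_9 : allB chkP 10 9216 = true := by decide +kernel
theorem r_10 : allB chkP 10 10240 = true := by decide +kernel
theorem r_11 : allB chkP 10 11264 = true := by decide +kernel
theorem r_12 : allB chkP 10 12288 = true := by decide +kernel
theorem r_13 : allB chkP 10 13312 = true := by decide +kernel
theorem r_14 : allB chkP 10 14336 = true := by decide +kernel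
theorem r_15 : allB chkP 10 15360 = true := by decide +kernel
end H2.TCHNB
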