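import Cfsg.Agent.Lib.H2.TCHNB.Chk
set_option Elab.async false
set_option autoImplicit false
set_option maxRecDepth 100000
set_option linter.all false
namespace H2.TCHNB
open H35.TC
theorem r_16 : allB chkP 10 16384 = true := by decide +kernel
theorem r_17 : allB chkP 10 17408 = true := by decide +kernel
theorem r_18 : allB chkP 10 18432 = true := by decide +kernel
theorem r_19 : allB chkP 10 19456 = true := by decide +kernel
theorem r_20 : allB chkP 10 20480 = true := by decide +kernel
theorem r_21 : allB chkP 10 21504 = true := by decide +kernel
theorem r_22 : allB chkP 10 22528 = true := by decide +kernel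
theorem r_23 : allB chkP 10 23552 = true := by decide +kernel
end H2.TCHNB
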