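import Cfsg.Agent.Lib.H2.TCHNB.Chk
set_option Elab.async false
set_option autoImplicit false
set_option maxRecDepth 100000
set_option linter.all false
namespace H2.TCHNB
open H35.TC
theorem r_48 : allB chkP 10 49152 = true := by decide +kernel
theorem r_49 : allB chkP 10 50176 = true := by decide +kernel
theorem r_50 : allB chkP 10 51200 = true := by decide +kernel
theorem r_51 : allB chkP 10 52224 = true := by decide +kernel
theorem r_52 : allB chkP 10 53248 = true := by decide +kernel
theorem r_53 : allB chkP 10 54272 = true := by decide +kernel
theorem r_54 : allB chkP 10 55296 = true := by decide +kernel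
theorem r_55 : allB chkP 10 56320 = true := by decide +kernel
end H2.TCHNB
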