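import Cfsg.Agent.Lib.H2.TCHNB.Chk
set_option Elab.async false
set_option autoImplicit false
set_option maxRecDepth 100000
set_option linter.all false
namespace H2.TCHNB
open H35.TC
theorem r_56 : allB chkP 10 57344 = true := by decide +kernel
theorem r_57 : allB chkP 10 58368 = true := by decide +kernel
theorem r_58 : allB chkP 10 59392 = true := by decide +kernel
theorem r_59 : allB chkP 10 60416 = true := by decide +kernel
theorem r_60 : allB chkP 10 61440 = true := by decide +kernel
theorem r_61 : allB chkP 10 62464 = true := by decide +kernel
theorem r_62 : allB chkP 10 63488 = true := by decide +kernel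
theorem r_63 : allB chkP 10 64512 = true := by decide +kernel
end H2.TCHNB
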