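import Cfsg.Agent.Lib.H2.TCHNB.Chk
set_option Elab.async false
set_option autoImplicit false
set_option maxRecDepth 100000
set_option linter.all false
namespace H2.TCHNB
open H35.TC
theorem r_64 : allB chkP 10 65536 = true := by decide +kernel
theorem r_65 : allB chkP 10 66560 = true := by decide +kernel
theorem r_66 : allB chkP 10 67584 = true := by decide +kernel
end H2.TCHNB
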